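import Mathlib
set_option linter.all false

/-!
# Groups whose abelianization has exponent dividing `p`

* `pow_mem_of_closure`: if `G` is generated by elements whose `p`-th power lies in the derived
  subgroup then the `p`-th power of every element lies in the derived subgroup.
* `Gen p L`: the subgroup `L` is generated by elements `x` with `x ^ p = 1`.
* `congr`: invariance under isomorphism; `sylow_congr`: it is enough to treat one Sylow subgroup.
-/

set_option autoImplicit false

namespace Cfsg.Agent.H636.ElemAb

variable {G : Type*} [Group G]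

/-- If `G` is generated by elements whose `p`-th power lies in the derived subgroup then the
`p`-th power of every element lies in the derived subgroup. -/
theorem pow_mem_of_closure (p : ℕ) (S : Set G) (hS : Subgroup.closure S = ⊤)
    (h : ∀ s ∈ S, s ^ p ∈ commutator G) (x : G) : x ^ p ∈ commutator G := by
  let f : G →* Abelianization G := (powMonoidHom p).comp Abelianization.of
  have hf : ∀ y, f y = Abelianization.of (y ^ p) := by
    intro y
    simp [f]
  have hmem : ∀ y : G, y ^ p ∈ commutator G ↔ f y = 1 := by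
    intro y
    rw [hf, ← MonoidHom.mem_ker, Abelianization.ker_of]
  rw [hmem]
  have hx : x ∈ Subgroup.closure S := by
    rw [hS]
    trivial
  have hle : Subgroup.closure S ≤ f.ker := by
    rw [Subgroup.closure_le]
    intro s hs
    exact (hmem s).1 (h s hs)
  exact hle hx

/-- Invariance under isomorphism. -/
theorem congr {H : Type*} [Group H] (e : G ≃* H) {p : ℕ} (h : ∀ x : G, x ^ p ∈ commutator G) (y : H) :
    y ^ p ∈ commutator H := by
  have h1 := h (e.symm y)
  have h2 : e (e.symm y ^ p) ∈ (commutator G).map e.toMonoidHom := ⟨_, h1, rfl⟩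
  have h3 : (commutator G).map e.toMonoidHom ≤ commutator H := by
    rw [commutator_def, commutator_def, Subgroup.map_commutator]
    exact Subgroup.commutator_mono le_top le_top
  have h4 := h3 h2
  rwa [map_pow, MulEquiv.apply_symm_apply] at h4

/-- It is enough to treat one Sylow subgroup. -/
theorem sylow_congr [Finite G] {p q : ℕ} [Fact p.Prime] (P Q : Sylow p G)
    (h : ∀ x : (P : Subgroup G), x ^ q ∈ commutator (P : Subgroup G)) (y : (Q : Subgroup G)) :
    y ^ q ∈ commutator (Q : Subgroup G) :=
  congr (Sylow.equiv P Q) h y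

/-- The subgroup `L` is generated by elements `x` with `x ^ p = 1`. -/
def Gen (p : ℕ) (L : Subgroup G) : Prop :=
  L ≤ Subgroup.closure {x | x ∈ L ∧ x ^ p = 1}

theorem Gen.map {H : Type*} [Group H] (f : G →* H) {p : ℕ} {L : Subgroup G} (h : Gen p L) :
    Gen p (L.map f) := by
  unfold Gen at *
  rintro _ ⟨x, hx, rfl⟩
  have h1 : f x ∈ (Subgroup.closure {x | x ∈ L ∧ x ^ p = 1}).map f := ⟨x, h hx, rfl⟩
  rw [MonoidHom.map_closure] at h1
  refine Subgroup.closure_mono ?_ h1
  rintro _ ⟨y, ⟨hy, hy1⟩, rfl⟩
  exact ⟨⟨y, hy, rfl⟩, by rw [← map_pow, hy1, map_one]⟩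

/-- The version of `pow_mem_of_closure` for a subgroup given by generators in the ambient group. -/
theorem pow_mem_of_subset (p : ℕ) (L : Subgroup G) (S : Set G) (hSL : S ⊆ L)
    (hL : L ≤ Subgroup.closure S) (hS : ∀ s ∈ S, s ^ p ∈ ⁅L, L⁆) (x : L) : x ^ p ∈ commutator L := by
  have hcomm : ∀ y : L, y ∈ commutator L ↔ (y : G) ∈ ⁅L, L⁆ := by
    intro y
    have h1 : (commutator L).map L.subtype = ⁅L, L⁆ := by
      rw [commutator_def, Subgroup.map_commutator, ← MonoidHom.range_eq_map, Subgroup.range_subtype]
    rw [← h1]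
    constructor
    · intro hy
      exact ⟨y, hy, rfl⟩
    · rintro ⟨z, hz, hzy⟩
      have : z = y := Subtype.ext hzy
      rwa [← this]
  refine pow_mem_of_closure p (((↑) : L → G) ⁻¹' S) ?_ ?_ x
  · rw [eq_top_iff]
    intro y _
    have h1 : (y : G) ∈ (Subgroup.closure (((↑) : L → G) ⁻¹' S)).map L.subtype := by
      rw [MonoidHom.map_closure]
      have h2 : (L.subtype '' (((↑) : L → G) ⁻¹' S)) = S := by
        ext z
        constructor
        · rintro ⟨w, hw, rfl⟩
          exact hw
        · intro hz
          exact ⟨⟨z, hSL hz⟩, hz, rfl⟩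
      rw [h2]
      exact hL y.2
    obtain ⟨z, hz, hzy⟩ := h1
    have : z = y := Subtype.ext hzy
    rwa [← this]
  · intro s hs
    rw [hcomm]
    push_cast
    exact hS _ hs

theorem Gen.pow_mem {p : ℕ} {L : Subgroup G} (h : Gen p L) (x : L) : x ^ p ∈ commutator L :=
  pow_mem_of_subset p L {x | x ∈ L ∧ x ^ p = 1} (fun _ hx => hx.1) h
    (fun s hs => by rw [hs.2]; exact Subgroup.one_mem _) x

end Cfsg.Agent.H636.ElemAb
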