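import Mathlib
import Cfsg.Agent.H636.ElemAb
set_option linter.all false

/-!
# Sylow subgroups of symmetric groups

For a subgroup `H` of `Perm α` the group `wr p H` is the wreath product `C_p ≀ H` acting on
`α × ZMod p`.

* `card_wr`: its order is `p ^ |α| * |H|`.
* `exists_sylow`: with `m = n / p`, a Sylow `p`-subgroup `H` of `Perm (Fin m)` gives the Sylow
  `p`-subgroup of `Perm (Fin n)` which is the image of `wr p H`.
* `gen_sylow`: Sylow `p`-subgroups of `Perm (Fin n)` are generated by elements with `x ^ p = 1`;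
* `gen_sylow_inf`: so are their intersections with the alternating group.
-/

set_option autoImplicit false

namespace Cfsg.Agent.H636.SymSylow

open Equiv Cfsg.Agent.H636.ElemAb
open scoped Pointwise

variable {α : Type*} {p : ℕ}

/-- The base group of the wreath product. -/
def base (b : α → ZMod p) : Perm (α × ZMod p) where
  toFun x := (x.1, x.2 + b x.1)
  invFun x := (x.1, x.2 - b x.1)
  left_inv x := by simp
  right_inv x := by simp

/-- The top group of the wreath product. -/
def top (σ : Perm α) : Perm (α × ZMod p) where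
  toFun x := (σ x.1, x.2)
  invFun x := (σ.symm x.1, x.2)
  left_inv x := by simp
  right_inv x := by simp

@[simp] theorem base_apply (b : α → ZMod p) (x : α × ZMod p) : base b x = (x.1, x.2 + b x.1) := rfl

@[simp] theorem top_apply (σ : Perm α) (x : α × ZMod p) : (top σ : Perm (α × ZMod p)) x = (σ x.1, x.2) := rfl

/-- The top group as a homomorphism. -/
def topHom : Perm α →* Perm (α × ZMod p) where
  toFun := top
  map_one' := by
    ext x <;> simp
  map_mul' σ τ := by
    ext x <;> simp

theorem base_pow (b : α → ZMod p) (k : ℕ) : base b ^ k = base (fun a => (k : ZMod p) * b a) := by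
  induction k with
  | zero =>
    ext x <;> simp
  | succ k ih =>
    rw [pow_succ, ih]
    ext x
    · simp
    · simp
      ring

theorem base_pow_p (b : α → ZMod p) : base b ^ p = 1 := by
  rw [base_pow]
  ext x <;> simp

/-- The wreath product of the cyclic group of order `p` with `H`. -/
def wr (p : ℕ) (H : Subgroup (Perm α)) : Subgroup (Perm (α × ZMod p)) where
  carrier := {π | ∃ b : α → ZMod p, ∃ σ ∈ H, π = top σ * base b}
  one_mem' := ⟨0, 1, H.one_mem, by ext x <;> simp⟩
  mul_mem' := by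
    rintro _ _ ⟨b, σ, hσ, rfl⟩ ⟨c, τ, hτ, rfl⟩
    refine ⟨fun a => c a + b (τ a), σ * τ, H.mul_mem hσ hτ, ?_⟩
    ext x
    · simp
    · simp
      ring
  inv_mem' := by
    rintro _ ⟨b, σ, hσ, rfl⟩
    refine ⟨fun a => - b (σ.symm a), σ⁻¹, H.inv_mem hσ, ?_⟩
    rw [inv_eq_iff_mul_eq_one]
    ext x <;> simp

theorem top_mem {H : Subgroup (Perm α)} {σ : Perm α} (hσ : σ ∈ H) : top σ ∈ wr p H :=
  ⟨0, σ, hσ, by ext x <;> simp⟩

theorem base_mem {H : Subgroup (Perm α)} (b : α → ZMod p) : base b ∈ wr p H :=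
  ⟨b, 1, H.one_mem, by ext x <;> simp⟩

theorem card_wr [Fact p.Prime] [Finite α] (H : Subgroup (Perm α)) :
    Nat.card (wr p H) = p ^ Nat.card α * Nat.card H := by
  have e : (α → ZMod p) × H ≃ wr p H := by
    refine Equiv.ofBijective (fun x => ⟨top x.2 * base x.1, x.1, x.2, x.2.2, rfl⟩) ⟨?_, ?_⟩
    · rintro ⟨b, σ, hσ⟩ ⟨c, τ, hτ⟩ h
      have h1 : (top σ * base b : Perm (α × ZMod p)) = top τ * base c := congrArg Subtype.val h
      have h2 : ∀ a : α, σ a = τ a ∧ b a = c a := by
        intro a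
        have h3 := congrArg (fun π : Perm (α × ZMod p) => π (a, 0)) h1
        simpa using h3
      have h4 : σ = τ := Equiv.ext fun a => (h2 a).1
      have h5 : b = c := funext fun a => (h2 a).2
      subst h4
      subst h5
      rfl
    · rintro ⟨_, b, σ, hσ, rfl⟩
      exact ⟨(b, ⟨σ, hσ⟩), rfl⟩
  rw [← Nat.card_congr e, Nat.card_prod, Nat.card_fun, Nat.card_zmod]

theorem gen_wr {H : Subgroup (Perm α)} (hH : Gen p H) : Gen p (wr p H) := by
  rintro _ ⟨b, σ, hσ, rfl⟩
  refine Subgroup.mul_mem _ ?_ (Subgroup.subset_closure ⟨base_mem b, base_pow_p b⟩)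
  have h1 : topHom σ ∈ (Subgroup.closure {x | x ∈ H ∧ x ^ p = 1}).map (topHom (p := p)) :=
    ⟨σ, hH hσ, rfl⟩
  rw [MonoidHom.map_closure] at h1
  refine Subgroup.closure_mono ?_ h1
  rintro _ ⟨τ, ⟨hτ, hτ1⟩, rfl⟩
  exact ⟨top_mem hτ, by rw [← map_pow, hτ1, map_one]⟩

theorem sign_top [Fintype α] [DecidableEq α] (σ : Perm α) :
    Perm.sign (top σ : Perm (α × ZMod 2)) = 1 := by
  have h : (top σ : Perm (α × ZMod 2)) = Equiv.prodCongrLeft (fun _ => σ) := by
    ext x <;> simp
  rw [h, Perm.sign_prodCongrLeft]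
  simp

theorem gen_wr_two [Fintype α] [DecidableEq α] {H : Subgroup (Perm α)} (hH : Gen 2 H) :
    Gen 2 (wr 2 H ⊓ alternatingGroup (α × ZMod 2)) := by
  rintro _ ⟨⟨b, σ, hσ, rfl⟩, hs⟩
  have hs' : Perm.sign (top σ * base b : Perm (α × ZMod 2)) = 1 := hs
  rw [Perm.sign_mul, sign_top, one_mul] at hs'
  refine Subgroup.mul_mem _ ?_ (Subgroup.subset_closure ⟨⟨base_mem b, hs'⟩, base_pow_p b⟩)
  have h1 : topHom σ ∈ (Subgroup.closure {x | x ∈ H ∧ x ^ 2 = 1}).map (topHom (p := 2)) :=
    ⟨σ, hH hσ, rfl⟩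
  rw [MonoidHom.map_closure] at h1
  refine Subgroup.closure_mono ?_ h1
  rintro _ ⟨τ, ⟨hτ, hτ1⟩, rfl⟩
  exact ⟨⟨top_mem hτ, sign_top τ⟩, by rw [← map_pow, hτ1, map_one]⟩

/-- The exponent of `p` in `n!`. -/
theorem factorization_factorial [hp : Fact p.Prime] (n : ℕ) :
    n.factorial.factorization p = n / p + (n / p).factorial.factorization p := by
  rw [Nat.factorization_def _ hp.out, Nat.factorization_def _ hp.out,
    ← padicValNat_mul_div_factorial, padicValNat_factorial_mul]
  ring

/-- The image of `wr p H` in `Perm (Fin n)` for an embedding. -/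
theorem exists_sylow_aux [hp : Fact p.Prime] (n : ℕ) (H : Sylow p (Perm (Fin (n / p)))) :
    ∃ f : Fin (n / p) × ZMod p ↪ Fin n, ∃ P : Sylow p (Perm (Fin n)),
      (P : Subgroup (Perm (Fin n))) =
        (wr p (H : Subgroup (Perm (Fin (n / p))))).map (Perm.viaEmbeddingHom f) := by
  have : NeZero p := ⟨hp.out.ne_zero⟩
  have hcard : Fintype.card (Fin (n / p) × ZMod p) ≤ Fintype.card (Fin n) := by
    rw [Fintype.card_prod, Fintype.card_fin, Fintype.card_fin, ZMod.card]
    exact Nat.div_mul_le_self n p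
  obtain ⟨f⟩ := Function.Embedding.nonempty_of_card_le hcard
  have h1 : Nat.card ((wr p (H : Subgroup (Perm (Fin (n / p))))).map (Perm.viaEmbeddingHom f)) =
      p ^ (Nat.card (Perm (Fin n))).factorization p := by
    rw [Nat.card_congr (Subgroup.equivMapOfInjective _ _
      (Perm.viaEmbeddingHom_injective f)).toEquiv.symm, card_wr, H.card_eq_multiplicity,
      Nat.card_eq_fintype_card, Fintype.card_fin, Nat.card_eq_fintype_card, Nat.card_eq_fintype_card,
      Fintype.card_perm, Fintype.card_perm, Fintype.card_fin, Fintype.card_fin, ← pow_add,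
      ← factorization_factorial]
  exact ⟨f, Sylow.ofCard _ h1, rfl⟩

theorem gen_conj {G : Type*} [Group G] {q : ℕ} {L : Subgroup G} (h : Gen q L) (g : G) :
    Gen q (MulAut.conj g • L) := by
  have h1 := h.map (MulAut.conj g).toMonoidHom
  exact h1

/-- Sylow subgroups of finite symmetric groups are generated by elements with `x ^ p = 1`. -/
theorem gen_sylow [hp : Fact p.Prime] (n : ℕ) (P : Sylow p (Perm (Fin n))) :
    Gen p (P : Subgroup (Perm (Fin n))) := by
  induction n using Nat.strong_induction_on with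
  | _ n ih =>
    rcases Nat.eq_zero_or_pos n with h0 | h0
    · subst h0
      intro x _
      have : x = 1 := Subsingleton.elim _ _
      rw [this]
      exact Subgroup.one_mem _
    · have hlt : n / p < n := Nat.div_lt_self h0 hp.out.one_lt
      obtain ⟨H⟩ : Nonempty (Sylow p (Perm (Fin (n / p)))) := inferInstance
      obtain ⟨f, Q, hQ⟩ := exists_sylow_aux n H
      have hQg : Gen p (Q : Subgroup (Perm (Fin n))) := by
        rw [hQ]
        exact (gen_wr (ih _ hlt H)).map _
      obtain ⟨g, rfl⟩ := MulAction.exists_smul_eq (Perm (Fin n)) Q P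
      exact gen_conj hQg g

theorem conj_inf_alt {n : ℕ} (g : Perm (Fin n)) (L : Subgroup (Perm (Fin n))) :
    (MulAut.conj g • L) ⊓ alternatingGroup (Fin n) =
      MulAut.conj g • (L ⊓ alternatingGroup (Fin n)) := by
  ext x
  rw [Subgroup.mem_inf, Subgroup.mem_pointwise_smul_iff_inv_smul_mem,
    Subgroup.mem_pointwise_smul_iff_inv_smul_mem, Subgroup.mem_inf]
  have h1 : (MulAut.conj g)⁻¹ • x ∈ alternatingGroup (Fin n) ↔ x ∈ alternatingGroup (Fin n) := by
    rw [Perm.mem_alternatingGroup, Perm.mem_alternatingGroup, ← map_inv, MulAut.smul_def,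
      MulAut.conj_apply, map_mul, map_mul, map_inv, mul_comm, ← mul_assoc]
    simp
  rw [h1]

theorem mem_alt_of_pow {n q : ℕ} (hq : Odd q) {x : Perm (Fin n)} (hx : x ^ q = 1) :
    x ∈ alternatingGroup (Fin n) := by
  rw [Perm.mem_alternatingGroup]
  have h1 : Perm.sign x ^ q = 1 := by
    rw [← map_pow, hx, map_one]
  rcases Int.units_eq_one_or (Perm.sign x) with h | h
  · exact h
  · rw [h, hq.neg_one_pow] at h1
    exact absurd h1 (by decide)

/-- The intersection of a Sylow subgroup of a finite symmetric group with the alternating group is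
generated by elements with `x ^ p = 1`. -/
theorem gen_sylow_inf [hp : Fact p.Prime] (n : ℕ) (P : Sylow p (Perm (Fin n))) :
    Gen p ((P : Subgroup (Perm (Fin n))) ⊓ alternatingGroup (Fin n)) := by
  rcases hp.out.eq_two_or_odd' with h2 | hodd
  · subst h2
    obtain ⟨H⟩ : Nonempty (Sylow 2 (Perm (Fin (n / 2)))) := inferInstance
    obtain ⟨f, Q, hQ⟩ := exists_sylow_aux n H
    obtain ⟨g, rfl⟩ := MulAction.exists_smul_eq (Perm (Fin n)) Q P
    have h1 : Gen 2 ((Q : Subgroup (Perm (Fin n))) ⊓ alternatingGroup (Fin n)) := by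
      have h2 : (Q : Subgroup (Perm (Fin n))) ⊓ alternatingGroup (Fin n) =
          (wr 2 (H : Subgroup (Perm (Fin (n / 2)))) ⊓ alternatingGroup (Fin (n / 2) × ZMod 2)).map
            (Perm.viaEmbeddingHom f) := by
        rw [hQ]
        ext x
        rw [Subgroup.mem_inf, Subgroup.mem_map, Subgroup.mem_map]
        have hs : ∀ y : Perm (Fin (n / 2) × ZMod 2),
            Perm.sign (Perm.viaEmbeddingHom f y) = Perm.sign y := by
          intro y
          rw [Perm.viaEmbeddingHom_apply]
          unfold Perm.viaEmbedding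
          convert Perm.sign_extendDomain y (Equiv.ofInjective f.1 f.2)
        constructor
        · rintro ⟨⟨y, hy, rfl⟩, hx⟩
          exact ⟨y, ⟨hy, (hs y).symm.trans hx⟩, rfl⟩
        · rintro ⟨y, ⟨hy, hy2⟩, rfl⟩
          exact ⟨⟨y, hy, rfl⟩, (hs y).trans hy2⟩
      rw [h2]
      exact (gen_wr_two (gen_sylow _ H)).map _
    have h3 := gen_conj h1 g
    rw [← conj_inf_alt] at h3
    exact h3
  · have h1 : (P : Subgroup (Perm (Fin n))) ⊓ alternatingGroup (Fin n) = P := by
      rw [inf_eq_left]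
      intro x hx
      have h2 := gen_sylow n P hx
      have h3 : Subgroup.closure {x | x ∈ (P : Subgroup (Perm (Fin n))) ∧ x ^ p = 1} ≤
          alternatingGroup (Fin n) := by
        rw [Subgroup.closure_le]
        intro y hy
        exact mem_alt_of_pow hodd hy.2
      exact h3 h2
    rw [h1]
    exact gen_sylow n P

end Cfsg.Agent.H636.SymSylow
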