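import Cfsg.Agent.Nodes.NormalForm
import Cfsg.Agent.Nodes.RGDLib
import Cfsg.Agent.H636.ElemAb
import Cfsg.Agent.Mrg.Omega.Lie.End.KDead
import Cfsg.Agent.Prune
set_option linter.all false

section
prune_inst 0x7f00000000000000000000000000000000000000000000000000000000000000000000000000000000000000000000000000000000000000000000000000000000000000000000000000000000000000003fffffffffffffffffffffffffffbeffbdffffffff

-- part: H636/RgdAb
section
set_option linter.all false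
open scoped Cfsg.Agent.FastGrp

/-!
# Sylow 2-subgroups of groups with a root group datum: exponent of the abelianization

`R : RGD cs h 2 T n X` a root group datum, the root groups generating the finite group `Y`.
If `x * x ∈ ⁅X α, X α⁆` for all `x` in the simple root groups `X α`, then `x ^ 2 ∈ S'` for all `x` in a
Sylow 2-subgroup `S`.
-/

set_option autoImplicit false
set_option linter.unusedSectionVars false

namespace Cfsg.Agent.H636.RgdAb

open CoxeterSystem Cfsg.Agent.ChevalleyStructure.CoxeterGeom Cfsg.Agent.Tits.Roots Cfsg.Agent.Tits.Core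
  Cfsg.Agent.Tits.RootComb Cfsg.Agent.Nodes.Comb Cfsg.Agent.Nodes.Reps Cfsg.Agent.Nodes.BNOf
  Cfsg.Agent.Nodes.Bruhat Cfsg.Agent.Nodes.RGDLib
open Cfsg.Agent.H636.ElemAb
open scoped commutatorElement

variable {I W Y : Type*} [Fintype I] [DecidableEq I] [Group W] [Group Y] {M : CoxeterMatrix I}
  {cs : CoxeterSystem M W} {A : I → I → ℤ} {h : IsCartan M A} {T : Subgroup Y} {n : I → Y}
  {X : (I → ℤ) → Subgroup Y}

/-- The Sylow 2-subgroup `U`. -/
theorem exists_syl [Finite W] [Finite Y] (R : RGD cs h 2 T n X) (hG : G1 cs h X = ⊤) :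
    ∃ S : Sylow 2 Y, (S : Subgroup Y) = RGD.Sup X (RGD.Pos cs h) := by
  have : Fact (Nat.Prime 2) := ⟨Nat.prime_two⟩
  have hGG : GG cs h T X = ⊤ := by
    rw [eq_top_iff, ← hG]
    exact iSup_le fun x => X_le_GG x.2
  have hU : IsPGroup 2 ↥(RGD.Sup X (RGD.Pos cs h)) := R.isPGroup_Upos
  obtain ⟨P, hP⟩ := hU.exists_le_sylow
  exact ⟨P, Cfsg.Agent.Nodes.NormalForm.eq_U_of_isPGroup R P.2 hP (by rw [hGG]; exact le_top)⟩

/-- The property passes from the simple root groups to all root groups. -/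
theorem sq_mem_root (R : RGD cs h 2 T n X) (hX : ∀ i, ∀ x ∈ X (sr i), x ^ 2 ∈ ⁅X (sr i), X (sr i)⁆)
    {r : I → ℤ} (hr : IsRoot cs h r) {x : Y} (hx : x ∈ X r) : x ^ 2 ∈ ⁅X r, X r⁆ := by
  obtain ⟨w, i, rfl⟩ := hr
  obtain ⟨g, hg⟩ := exists_rp cs R.nsys w
  rw [← R.conj_rp hg (isRoot_sr cs h i)] at hx ⊢
  obtain ⟨y, hy, rfl⟩ := hx
  unfold Cfsg.Agent.Nodes.Reps.cj
  rw [← Subgroup.map_commutator, ← map_pow]
  exact ⟨_, hX i y hy, rfl⟩

/-- **Main lemma.** -/
theorem sq_mem_of_rgd [Finite W] [Finite Y] (R : RGD cs h 2 T n X) (hG : G1 cs h X = ⊤)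
    (hX : ∀ i, ∀ x ∈ X (sr i), x ^ 2 ∈ ⁅X (sr i), X (sr i)⁆) (S : Sylow 2 Y) (x : (S : Subgroup Y)) :
    x ^ 2 ∈ commutator (S : Subgroup Y) := by
  have : Fact (Nat.Prime 2) := ⟨Nat.prime_two⟩
  obtain ⟨P, hP⟩ := exists_syl R hG
  refine sylow_congr P S (fun y => ?_) x
  refine pow_mem_of_subset 2 (P : Subgroup Y) (⋃ r : RGD.Pos cs h, (X r.1 : Set Y)) ?_ ?_ ?_ y
  · intro z hz
    obtain ⟨r, hr⟩ := Set.mem_iUnion.1 hz
    rw [hP]
    exact RGD.le_Sup r.2 hr
  · rw [hP]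
    refine RGD.Sup_le fun r hr z hz => ?_
    exact Subgroup.subset_closure (Set.mem_iUnion.2 ⟨⟨r, hr⟩, hz⟩)
  · intro s hs
    obtain ⟨r, hr⟩ := Set.mem_iUnion.1 hs
    have h1 : X r.1 ≤ (P : Subgroup Y) := by
      rw [hP]
      exact RGD.le_Sup r.2
    exact Subgroup.commutator_mono h1 h1 (sq_mem_root R hX r.2.1 hr)

/-- **Main lemma**, root groups of exponent two. -/
theorem sq_mem_of_rgd' [Finite W] [Finite Y] (R : RGD cs h 2 T n X) (hG : G1 cs h X = ⊤)
    (hX : ∀ i, ∀ x ∈ X (sr i), x * x = 1) (S : Sylow 2 Y) (x : (S : Subgroup Y)) :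
    x ^ 2 ∈ commutator (S : Subgroup Y) :=
  sq_mem_of_rgd R hG (fun i y hy => by rw [pow_two, hX i y hy]; exact Subgroup.one_mem _) S x

/-- The conclusion of the statement, as a property of a group. -/
def SylEl (Y : Type*) [Group Y] : Prop :=
  ∀ S : Sylow 2 Y, ∀ x : (S : Subgroup Y), x ^ 2 ∈ commutator (S : Subgroup Y)

/-- Invariance under isomorphism. -/
theorem SylEl.of_equiv {Y Z : Type*} [Group Y] [Group Z] [Finite Y] (e : Z ≃* Y) (hY : SylEl Y) : SylEl Z := by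
  intro S
  have : Fact (Nat.Prime 2) := ⟨Nat.prime_two⟩
  have : Finite Z := Finite.of_equiv Y e.symm.toEquiv
  have hs : Function.Surjective e.toMonoidHom := e.surjective
  have hi : Function.Injective e.toMonoidHom := e.injective
  have h1 := hY (S.mapSurjective hs)
  have e1 : (S : Subgroup Z) ≃* ((S.mapSurjective hs : Sylow 2 Y) : Subgroup Y) :=
    ((S : Subgroup Z).equivMapOfInjective e.toMonoidHom hi).trans
      (MulEquiv.subgroupCongr (Sylow.coe_mapSurjective _ _).symm)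
  exact congr e1.symm h1

/-- It is enough to treat one Sylow subgroup. -/
theorem sylEl_of {Y : Type*} [Group Y] [Finite Y] (P : Sylow 2 Y)
    (hP : ∀ x : (P : Subgroup Y), x ^ 2 ∈ commutator (P : Subgroup Y)) : SylEl Y := by
  have : Fact (Nat.Prime 2) := ⟨Nat.prime_two⟩
  exact fun S => sylow_congr P S hP

end Cfsg.Agent.H636.RgdAb
end

-- part: H636/LieTwoSz
section
set_option linter.all false
open scoped Cfsg.Agent.FastGrp

/-!
# Suzuki groups and `²F₄(q)`, `q ≥ 8`: the Sylow 2-subgroups have elementary abelian abelianization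

`suz_comm`: in a group with elements `x p u` which multiply by `x p u * x q v = x (p + q) (u + v + p σ(q))` over a
field with `σ² = 2` and more than two elements every `x 0 b` is a commutator `⁅x a 0, x c 0⁆`.
-/

set_option autoImplicit false
set_option linter.unusedSectionVars false

namespace Cfsg.Agent.H636.LieTwoSz

open Cfsg.Agent.H636.ElemAb Cfsg.Agent.H636.RgdAb
open scoped commutatorElement

/-- Every central element of the Suzuki group law is a commutator. -/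
theorem suz_comm {F G : Type*} [Field F] [Group G] (h2 : (2 : F) = 0) (σ : F →+* F) (x : F → F → G)
    (m : ∀ p u q v, x p u * x q v = x (p + q) (u + v + p * σ q)) (hroot : ∀ b : F, b ≠ 0 → ∃ a, a * σ a = b)
    {s : F} (hs : s + σ s ≠ 0) (b : F) : ∃ a c : F, x 0 b = ⁅x a 0, x c 0⁆ := by
  have hx0 : x 0 0 = 1 := by
    have h := m 0 0 0 0
    simp only [add_zero, zero_mul] at h
    exact mul_eq_left.mp h
  have key : ∀ a c : F, ⁅x a 0, x c 0⁆ = x 0 (a * σ c + c * σ a) := by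
    intro a c
    rw [commutatorElement_def, mul_inv_eq_iff_eq_mul, mul_inv_eq_iff_eq_mul, m, m, m]
    congr 1
    · ring
    · linear_combination (-(c * σ a)) * h2
  by_cases hb : b = 0
  · refine ⟨0, 0, ?_⟩
    rw [key, hb, map_zero, mul_zero, add_zero]
  · obtain ⟨a, ha⟩ := hroot (b / (s + σ s)) (div_ne_zero hb hs)
    refine ⟨a, a * s, ?_⟩
    rw [key, map_mul]
    congr 1
    have h3 : a * σ a * (s + σ s) = b := by
      rw [ha, div_mul_cancel₀ _ hs]
    rw [← h3]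
    ring

/-- An element `s` with `s + σ s ≠ 0`. -/
theorem exists_add_ne {F : Type*} [Field F] (h2 : (2 : F) = 0) (σ : F →+* F) (hσ : ∀ x, σ (σ x) = x ^ 2)
    {c : F} (hc0 : c ≠ 0) (hc1 : c ≠ 1) : c + σ c ≠ 0 := by
  intro h
  have h1 : σ c = c := by linear_combination h - c * h2
  have h3 := hσ c
  rw [h1, h1] at h3
  have h4 : c * (c - 1) = 0 := by linear_combination -h3
  rcases mul_eq_zero.1 h4 with h5 | h5
  · exact hc0 h5
  · exact hc1 (sub_eq_zero.1 h5)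

open Cfsg.Agent.ThreePrime in
/-- `Sz(q)` -/
theorem sylEl_sz {J : Type*} [Group J] [Finite J] (h : Cfsg.Lie.IsoSuzuki J) : SylEl J := by
  have : Fact (Nat.Prime 2) := ⟨Nat.prime_two⟩
  obtain ⟨F, iF, iF', m, hm, hc, ⟨R⟩⟩ := SzRel.exists_rel h
  obtain ⟨-, ho, -⟩ := Cfsg.Agent.Omega.EH3.Rank1.arith hm
  obtain ⟨P, hP⟩ := Cfsg.Agent.Omega.EH3.Rank1.sz_sylow R (by rw [Nat.card_eq_fintype_card, hc]; exact ho)
  obtain ⟨c, hc0, hc1⟩ := Cfsg.Agent.ParSys.Fam.TwoFFour.card_ge hm hc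
  refine sylEl_of P fun y => ?_
  refine pow_mem_of_subset 2 (P : Subgroup J) (P : Subgroup J) (fun _ hx => hx) (Subgroup.subset_closure) ?_ y
  intro x hx
  have h1 : x ∈ R.T := by rw [← hP]; exact hx
  obtain ⟨a, b, rfl⟩ := h1
  obtain ⟨a', c', h2⟩ := suz_comm R.two R.θ R.u R.u_mul (fun b hb => by
    obtain ⟨k, hk⟩ := R.exists_mul_theta (Units.mk0 b hb)
    exact ⟨k, hk⟩) (exists_add_ne R.two R.θ R.sq hc0 hc1) (a * R.θ a)
  rw [pow_two, R.u_mul_self, h2]
  exact Subgroup.commutator_mem_commutator (by rw [hP]; exact R.u_mem _ _) (by rw [hP]; exact R.u_mem _ _)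

section TwoFFour

open Cfsg.Lie
open Cfsg.Agent.ChevalleyStructure.TwF4.Rel
open Cfsg.Agent.ChevalleyStructure.TwF4.Groups Cfsg.Agent.ChevalleyStructure.TwF4.RankOne
open Cfsg.Agent.ChevalleyStructure.TwF4.Twisted Cfsg.Agent.ChevalleyStructure.TwF4.TwistedFix
open Cfsg.Agent.ChevalleyStructure.TwF4.BN
open Cfsg.Agent.Schreier.TwFFour Cfsg.Agent.Schreier.TwoGen
open Cfsg.Agent.Octagon.KRel (x8)
open Cfsg.Agent.Octagon.KSys Cfsg.Agent.Octagon.KPar Cfsg.Agent.Octagon.KRoot Cfsg.Agent.Octagon.Pkg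
open Cfsg.Agent.ParSys.Fam.TwoFFour Cfsg.Agent.Omega.Lie.End.DeadPhi

variable {K : Type*} [Field K] [Fintype K] [CharP K 2] {φ : K →+* K} {e : ℕ}

theorem sq_mem_U0 (hφ : Rln φ e) {c : K} (hc0 : c ≠ 0) (hc1 : c ≠ 1) (x : ↥(U0 K e)) :
    x ^ 2 ∈ commutator ↥(U0 K e) := by
  have h2 : (2 : K) = 0 := CharTwo.two_eq_zero
  have hsq : ∀ x, φ (φ x) = x ^ 2 := by
    intro x
    rw [hφ.phi x, map_pow, hφ.phi_pow]
  have hroot : ∀ b : K, b ≠ 0 → ∃ a, a * φ a = b := by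
    intro b hb
    have h4 := congrArg (fun x : Kˣ => (x : K)) (exists_root hφ (Units.mk0 b hb))
    simp only [Units.val_pow_eq_pow_val, Units.val_mk0] at h4
    refine ⟨((((Units.mk0 b hb) ^ (2 * e))⁻¹ * (Units.mk0 b hb) ^ 2 : Kˣ) : K) ^ e, ?_⟩
    rw [hφ.phi_pow, ← pow_succ]
    exact h4
  refine pow_mem_of_subset 2 (U0 K e) (({g | ∃ p u, y8 hφ p u = g} ∪ {g | ∃ t, y1 hφ t = g}) ∪
    (⁅U0 K e, U0 K e⁆ : Subgroup _)) ?_ ?_ ?_ x
  · rintro g ((⟨p, u, rfl⟩ | ⟨t, rfl⟩) | hg)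
    · exact U8 hφ p u
    · exact U1 hφ t
    · exact Subgroup.commutator_le_self _ hg
  · intro u hu
    obtain ⟨v, hv, t, h⟩ := decU_a hφ hu
    obtain ⟨y, hy, d, hd, -, hvy⟩ := dec_ge hφ hc0 hc1 7 1 (by norm_num) le_rfl v hv
    have hy' : y ∈ XX K e 8 := hy
    obtain ⟨p, w, rfl⟩ := (memXX8 hφ y).1 hy'
    have hy1 : (⟨xa e t, xa_mem t⟩ : ↥(twistedF4 K e)) = y1 hφ (t ^ e) := by
      apply Subtype.ext
      rw [coe_y1, xa_eq hφ, hφ.phi_pow]
    rw [h, hvy, hy1]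
    refine Subgroup.mul_mem _ (Subgroup.mul_mem _ ?_ ?_) ?_
    · exact Subgroup.subset_closure (Or.inl (Or.inl ⟨p, w, rfl⟩))
    · exact Subgroup.subset_closure (Or.inr hd)
    · exact Subgroup.subset_closure (Or.inl (Or.inr ⟨_, rfl⟩))
  · rintro g ((⟨p, u, rfl⟩ | ⟨t, rfl⟩) | hg)
    · rw [pow_two, (octPar hφ).m8, CharTwo.add_self_eq_zero, CharTwo.add_self_eq_zero, zero_add]
      obtain ⟨a', c', h3⟩ := suz_comm h2 φ (y8 hφ) (octPar hφ).m8 hroot (exists_add_ne h2 φ hsq hc0 hc1) (p * φ p)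
      rw [h3]
      exact Subgroup.commutator_mem_commutator (U8 hφ _ _) (U8 hφ _ _)
    · rw [pow_two, (octPar hφ).m1, CharTwo.add_self_eq_zero]
      have h4 : y1 hφ (0 : K) = 1 := by
        have := (octPar hφ).m1 0 0
        rw [add_zero] at this
        exact mul_eq_left.1 this
      rw [h4]
      exact Subgroup.one_mem _
    · exact Subgroup.pow_mem _ hg 2

end TwoFFour

open Cfsg.Lie Cfsg.Agent.ChevalleyStructure.TwF4.TwistedFix Cfsg.Agent.ParSys.Fam.TwoFFour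
  Cfsg.Agent.Omega.Lie.End.DeadPhi Cfsg.Agent.ChevalleyStructure.TwF4.Twisted in
/-- `²F₄(q)`, `q ≥ 8` -/
theorem sylEl_twoFFour {Y : Type*} [Group Y] (h : Iso2F4 Y) : SylEl Y := by
  have : Fact (Nat.Prime 2) := ⟨Nat.prime_two⟩
  obtain ⟨K, _, _, m, hm, hK, ⟨f⟩⟩ := h
  have : CharP K 2 := charP_two hK
  obtain ⟨φ, hφ⟩ := exists_rln hK
  obtain ⟨P, hP⟩ := exists_sylow_U0 hK hφ
  obtain ⟨c, hc0, hc1⟩ := card_ge hm hK
  refine SylEl.of_equiv f (sylEl_of P ?_)
  rw [hP]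
  exact sq_mem_U0 hφ hc0 hc1

end Cfsg.Agent.H636.LieTwoSz
end
end
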